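import Mathlib
import Cfsg.Prelude.Def_LinearParabolics

/-!
# The permutations in the alternating sum for the partition into ones

A permutation `κ` with `κ i ≤ i + 1` is determined by the set of cuts `D ⊆ [1, n)` between its cycles.
-/

set_option autoImplicit false

namespace CfsgLib.GLSt

open Finset

variable {n : ℕ}

/-- The first position of the block of `i`. -/
def start (D : Finset ℕ) (i : ℕ) : ℕ :=
  ((insert 0 D).filter (· ≤ i)).max' ⟨0, by simp⟩

theorem start_mem (D : Finset ℕ) (i : ℕ) : start D i ∈ insert 0 D :=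
  (mem_filter.1 (max'_mem _ _)).1

theorem start_le (D : Finset ℕ) (i : ℕ) : start D i ≤ i :=
  (mem_filter (p := (· ≤ i))).1 (max'_mem ((insert 0 D).filter (· ≤ i)) _) |>.2

theorem le_start {D : Finset ℕ} {i d : ℕ} (hd : d ∈ D) (hdi : d ≤ i) : d ≤ start D i :=
  le_max' _ _ (mem_filter.2 ⟨mem_insert_of_mem hd, hdi⟩)

theorem start_eq_of {D : Finset ℕ} {i a : ℕ} (ha : a ∈ insert 0 D) (hai : a ≤ i)
    (h : ∀ d ∈ D, d ≤ i → d ≤ a) : start D i = a := by
  refine le_antisymm ?_ (le_max' _ _ (mem_filter.2 ⟨ha, hai⟩))
  rcases mem_insert.1 (start_mem D i) with h0 | h0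
  · omega
  · exact h _ h0 (start_le D i)

theorem start_self {D : Finset ℕ} {i : ℕ} (h : i ∈ D) : start D i = i :=
  start_eq_of (mem_insert_of_mem h) le_rfl fun _ _ h => h

theorem start_succ_of_notMem {D : Finset ℕ} {i : ℕ} (h : i + 1 ∉ D) : start D (i + 1) = start D i :=
  start_eq_of (start_mem D i) ((start_le D i).trans (Nat.le_succ i)) fun d hd hdi =>
    le_start hd (by rcases hdi.eq_or_lt with rfl | h' <;> [exact absurd hd h; omega])

/-- The underlying function of the permutation with cuts `D`. -/
def kappaFun (n : ℕ) (D : Finset ℕ) (i : Fin n) : Fin n :=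
  if h : i.val + 1 < n ∧ i.val + 1 ∉ D then ⟨i.val + 1, h.1⟩ else ⟨start D i, (start_le D i).trans_lt i.2⟩

theorem kappaFun_val (D : Finset ℕ) (i : Fin n) :
    (kappaFun n D i).val = if i.val + 1 < n ∧ i.val + 1 ∉ D then i.val + 1 else start D i := by
  rw [kappaFun]; split_ifs <;> rfl

theorem kappaFun_injective (D : Finset ℕ) : Function.Injective (kappaFun n D) := by
  intro i j h
  have h' := congrArg Fin.val h
  rw [kappaFun_val, kappaFun_val] at h'
  split_ifs at h' with hi hj hj
  · exact Fin.ext (by omega)
  · rcases mem_insert.1 (start_mem D j) with h0 | h0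
    · omega
    · exact absurd (h' ▸ h0) hi.2
  · rcases mem_insert.1 (start_mem D i) with h0 | h0
    · omega
    · exact absurd (h' ▸ h0) hj.2
  · by_contra hne
    rcases lt_or_gt_of_ne (Fin.val_ne_of_ne hne) with hlt | hlt
    · have hd : i.val + 1 ∈ D := by
        by_contra hnd
        exact hi ⟨by omega, hnd⟩
      have h1 : i.val + 1 ≤ start D j := le_start hd (by omega)
      have := start_le D i
      omega
    · have hd : j.val + 1 ∈ D := by
        by_contra hnd
        exact hj ⟨by omega, hnd⟩
      have h1 : j.val + 1 ≤ start D i := le_start hd (by omega)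
      have := start_le D j
      omega

/-- The permutation with cuts `D`. -/
noncomputable def kappa (n : ℕ) (D : Finset ℕ) : Equiv.Perm (Fin n) :=
  Equiv.ofBijective (kappaFun n D) (Finite.injective_iff_bijective.1 (kappaFun_injective D))

theorem kappa_val (D : Finset ℕ) (i : Fin n) :
    (kappa n D i).val = if i.val + 1 < n ∧ i.val + 1 ∉ D then i.val + 1 else start D i :=
  kappaFun_val D i

theorem kappa_le (D : Finset ℕ) (i : Fin n) : (kappa n D i).val ≤ 1 + i.val := by
  rw [kappa_val]; split_ifs
  · omega
  · have := start_le D i; omega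

theorem kappa_inj_cuts {D D' : Finset ℕ} (hD : D ⊆ Ico 1 n) (hD' : D' ⊆ Ico 1 n) (h : kappa n D = kappa n D') :
    D = D' := by
  have key : ∀ {A B : Finset ℕ}, A ⊆ Ico 1 n → kappa n A = kappa n B → A ⊆ B := by
    intro A B hA h d hd
    have hd' := mem_Ico.1 (hA hd)
    by_contra hdB
    have h1 := congrArg Fin.val (DFunLike.congr_fun h (⟨d - 1, by omega⟩ : Fin n))
    rw [kappa_val, kappa_val, if_neg (fun c => c.2 (by simpa [Nat.sub_add_cancel hd'.1] using hd)),
      if_pos ⟨by simpa [Nat.sub_add_cancel hd'.1] using hd'.2, by simpa [Nat.sub_add_cancel hd'.1] using hdB⟩] at h1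
    have := start_le A (d - 1)
    simp only at h1
    omega
  exact Subset.antisymm (key hD h) (key hD' h.symm)

/-- The cuts of a permutation. -/
def cutsOf (κ : Equiv.Perm (Fin n)) : Finset ℕ :=
  ((univ : Finset (Fin n)).filter fun i => i.val + 1 < n ∧ (κ i).val ≠ i.val + 1).image fun i => i.val + 1

theorem cutsOf_subset (κ : Equiv.Perm (Fin n)) : cutsOf κ ⊆ Ico 1 n := by
  intro d hd
  obtain ⟨i, hi, rfl⟩ := mem_image.1 hd
  simp only [mem_filter] at hi
  exact mem_Ico.2 ⟨by omega, hi.2.1⟩

theorem mem_cutsOf {κ : Equiv.Perm (Fin n)} {i : Fin n} (hi : i.val + 1 < n) :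
    i.val + 1 ∈ cutsOf κ ↔ (κ i).val ≠ i.val + 1 := by
  simp only [cutsOf, mem_image, mem_filter, mem_univ, true_and]
  constructor
  · rintro ⟨j, ⟨-, hj⟩, hji⟩
    rwa [show j = i from Fin.ext (by omega)] at hj
  · exact fun h => ⟨i, ⟨hi, h⟩, rfl⟩

theorem kappa_cutsOf {κ : Equiv.Perm (Fin n)} (hκ : ∀ i, (κ i).val ≤ 1 + i.val) : kappa n (cutsOf κ) = κ := by
  set D := cutsOf κ with hD
  suffices h : ∀ (k : ℕ) (i : Fin n), i.val = k → kappa n D i = κ i from Equiv.ext fun i => h _ i rfl
  intro k
  induction k using Nat.strong_induction_on with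
  | _ k ih =>
    intro i hik
    by_cases hnext : (κ i).val = i.val + 1
    · have hlt : i.val + 1 < n := hnext ▸ (κ i).2
      apply Fin.ext
      rw [kappa_val, if_pos ⟨hlt, fun hm => (mem_cutsOf hlt).1 hm hnext⟩, hnext]
    · have hle : (κ i).val ≤ i.val := by have := hκ i; omega
      obtain ⟨j, hj⟩ := (kappa n D).surjective (κ i)
      rcases lt_trichotomy j.val i.val with hlt | heq | hgt
      · exact absurd (κ.injective ((ih j.val (hik ▸ hlt) j rfl).symm.trans hj)) fun h => hlt.ne (congrArg Fin.val h)
      · rw [← hj, show j = i from Fin.ext heq]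
      · have hv := congrArg Fin.val hj
        rw [kappa_val] at hv
        split_ifs at hv
        · omega
        · have hmem : i.val + 1 ∈ D := (mem_cutsOf (by omega)).2 hnext
          have := le_start hmem (show i.val + 1 ≤ j.val by omega)
          omega

theorem kappa_full : kappa n (Ico 1 n) = 1 := by
  ext i
  rw [kappa_val, if_neg (fun h => h.2 (mem_Ico.2 ⟨by omega, h.1⟩)), Equiv.Perm.one_apply]
  rcases Nat.eq_zero_or_pos i.val with h | h
  · have := start_le (Ico 1 n) i.val; omega
  · exact start_self (mem_Ico.2 ⟨h, i.2⟩)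

theorem sign_kappa {D : Finset ℕ} (hD : D ⊆ Ico 1 n) :
    ((Equiv.Perm.sign (kappa n D) : ℤ) : ℂ) = (-1 : ℂ) ^ (n - 1 - D.card) := by
  induction hk : (Ico 1 n \ D).card generalizing D with
  | zero =>
    have : D = Ico 1 n := Subset.antisymm hD (sdiff_eq_empty_iff_subset.1 (card_eq_zero.1 hk))
    subst this
    simp [kappa_full]
  | succ k ih =>
    obtain ⟨d, hd, hmin⟩ := exists_min_image (Ico 1 n \ D) id (card_pos.1 (by omega))
    simp only [id_eq] at hmin
    obtain ⟨hdI, hdD⟩ := mem_sdiff.1 hd
    have hd1 := mem_Ico.1 hdI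
    have hD' : insert d D ⊆ Ico 1 n := insert_subset hdI hD
    have hcard : (Ico 1 n \ insert d D).card = k := by
      rw [sdiff_insert, card_erase_of_mem hd, hk]; rfl
    have hlow : ∀ x, 1 ≤ x → x < d → x ∈ D := fun x hx1 hxd => by
      by_contra hx
      have := hmin x (mem_sdiff.2 ⟨mem_Ico.2 ⟨hx1, by omega⟩, hx⟩)
      omega
    have hprev : d - 1 ∈ insert 0 D := by
      rcases Nat.eq_zero_or_pos (d - 1) with h | h
      · rw [h]; exact mem_insert_self _ _
      · exact mem_insert_of_mem (hlow _ h (by omega))
    let a : Fin n := ⟨d - 1, by omega⟩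
    let b : Fin n := ⟨d, hd1.2⟩
    have hab : a ≠ b := fun h => by have := congrArg Fin.val h; simp only [a, b] at this; omega
    have hswap : ∀ x : Fin n, ((Equiv.swap a b) x).val =
        if x.val = d - 1 then d else if x.val = d then d - 1 else x.val := by
      intro x
      by_cases h1 : x = a
      · subst h1; rw [Equiv.swap_apply_left, if_pos rfl]
      by_cases h2 : x = b
      · subst h2; rw [Equiv.swap_apply_right, if_neg (show ¬ (d : ℕ) = d - 1 by omega), if_pos rfl]
      rw [Equiv.swap_apply_of_ne_of_ne h1 h2, if_neg (fun e => h1 (Fin.ext e)), if_neg (fun e => h2 (Fin.ext e))]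
    have hmul : kappa n D = Equiv.swap a b * kappa n (insert d D) := by
      ext i
      rw [Equiv.Perm.mul_apply, hswap]
      have hv := kappa_val D i
      have hv' := kappa_val (insert d D) i
      by_cases hid : i.val + 1 = d
      · rw [if_pos ⟨by omega, by rw [hid]; exact hdD⟩] at hv
        rw [if_neg (fun h => h.2 (by rw [hid]; exact mem_insert_self _ _))] at hv'
        rw [start_eq_of (a := i.val) ?_ le_rfl (fun _ _ h => h)] at hv'
        · rw [hv, hv', if_pos (show i.val = d - 1 by omega), hid]
        · rw [show i.val = d - 1 by omega]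
          exact insert_subset_insert 0 (subset_insert _ _) hprev
      · by_cases hn : i.val + 1 < n ∧ i.val + 1 ∉ D
        · rw [if_pos hn] at hv
          rw [if_pos ⟨hn.1, by simp [hid, hn.2]⟩] at hv'
          have hge : d ≤ i.val := by
            by_contra hlt
            exact hn.2 (hlow _ (by omega) (by omega))
          rw [hv, hv', if_neg (by omega), if_neg (by omega)]
        · rw [if_neg hn] at hv
          rw [if_neg (fun h => hn ⟨h.1, fun hm => h.2 (mem_insert_of_mem hm)⟩)] at hv'
          rw [hv, hv']
          by_cases hge : d ≤ i.val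
          · have hs : d ≤ start (insert d D) i := le_start (mem_insert_self _ _) hge
            rcases hs.eq_or_lt with hs | hs
            · rw [if_neg (by omega), if_pos hs.symm]
              refine start_eq_of hprev (by omega) fun x hx hxi => ?_
              have h1 := le_start (D := insert d D) (mem_insert_of_mem hx) hxi
              rcases (show x ≤ d by omega).eq_or_lt with h2 | h2
              · exact absurd (h2 ▸ hx) hdD
              · omega
            · rw [if_neg (by omega), if_neg (by omega)]
              have hmem := start_mem (insert d D) i.val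
              simp only [mem_insert] at hmem
              refine start_eq_of ?_ (start_le _ _) fun x hx hxi => le_start (mem_insert_of_mem hx) hxi
              rcases hmem with h | h | h
              · omega
              · omega
              · exact mem_insert_of_mem h
          · have hi0 : ∀ E : Finset ℕ, D ⊆ E → start E i = i.val := by
              intro E hE
              refine start_eq_of ?_ le_rfl fun _ _ h => h
              rcases Nat.eq_zero_or_pos i.val with h | h
              · rw [h]; exact mem_insert_self _ _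
              · exact mem_insert_of_mem (hE (hlow _ h (by omega)))
            rw [hi0 D subset_rfl, hi0 _ (subset_insert _ _), if_neg (by omega), if_neg (by omega)]
    rw [hmul, map_mul, Equiv.Perm.sign_swap hab, Units.val_mul, Int.cast_mul, ih hD' hcard,
      card_insert_of_notMem hdD]
    have hlt : D.card < n - 1 := by
      have h := card_sdiff_of_subset hD
      rw [Nat.card_Ico] at h
      omega
    rw [show n - 1 - D.card = (n - 1 - (D.card + 1)) + 1 by omega, pow_succ]
    simp [mul_comm]

/-- The composition attached to the cuts. -/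
noncomputable def comp (n : ℕ) (D : Finset ℕ) : Fin n → ℕ := fun i => 1 + i.val - (kappa n D i).val

theorem partial_sum {D : Finset ℕ} (j : Fin n) :
    ∑ k ∈ univ.filter (fun k : Fin n => k ≤ j), comp n D k =
      if j.val + 1 < n then start D (j.val + 1) else j.val + 1 := by
  suffices h : ∀ m, m < n → ∑ k ∈ univ.filter (fun k : Fin n => k.val < m), comp n D k = start D m by
    have hset : univ.filter (fun k : Fin n => k ≤ j) = univ.filter (fun k : Fin n => k.val < j.val + 1) := by
      ext k
      simp only [mem_filter, mem_univ, true_and, Fin.le_def]; omega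
    split_ifs with hj
    · rw [hset, h _ hj]
    · have hset2 : univ.filter (fun k : Fin n => k ≤ j) = insert j (univ.filter fun k : Fin n => k.val < j.val) := by
        ext k
        simp only [mem_filter, mem_univ, true_and, mem_insert, Fin.le_def, Fin.ext_iff]
        omega
      rw [hset2, sum_insert (by simp), h _ j.2, comp, kappa_val, if_neg (fun c => hj c.1)]
      have := start_le D j
      omega
  intro m
  induction m with
  | zero =>
    intro _
    rw [filter_false_of_mem (fun k _ => Nat.not_lt_zero _), sum_empty]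
    have := start_le D 0
    omega
  | succ m ih =>
    intro hm
    let mm : Fin n := ⟨m, by omega⟩
    have hset : univ.filter (fun k : Fin n => k.val < m + 1) = insert mm (univ.filter fun k : Fin n => k.val < m) := by
      ext k
      simp only [mem_filter, mem_univ, true_and, mem_insert, Fin.ext_iff, mm]
      omega
    rw [hset, sum_insert (by simp [mm]), ih (by omega), comp, kappa_val]
    by_cases hd : m + 1 ∈ D
    · rw [if_neg (fun c => c.2 hd), start_self hd]
      have := start_le D m
      simp only [mm]
      omega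
    · rw [if_pos ⟨hm, hd⟩, start_succ_of_notMem hd]
      simp only [mm]
      omega

theorem compLabel_lt_iff {D : Finset ℕ} (hD : D ⊆ Ico 1 n) (i j : Fin n) :
    Cfsg.compLabel (comp n D) j < Cfsg.compLabel (comp n D) i ↔ ∃ d ∈ D, j.val < d ∧ d ≤ i.val := by
  let S : Fin n → Finset (Fin n) := fun x => univ.filter fun k : Fin n => k.val + 1 < n ∧ start D (k.val + 1) ≤ x.val
  have hS : ∀ x, Cfsg.compLabel (comp n D) x = (S x).card := by
    intro x
    rw [Cfsg.compLabel]
    congr 1
    ext k
    simp only [mem_filter, mem_univ, true_and, S, partial_sum]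
    split_ifs with h
    · exact ⟨fun h' => ⟨h, h'⟩, fun h' => h'.2⟩
    · have := x.2
      have := k.2
      exact ⟨fun h' => by omega, fun h' => absurd h'.1 h⟩
  rw [hS, hS]
  constructor
  · intro h
    obtain ⟨k, hki, hkj⟩ := exists_mem_notMem_of_card_lt_card h
    simp only [S, mem_filter, mem_univ, true_and] at hki hkj
    have hgt : j.val < start D (k.val + 1) := by
      by_contra hle
      exact hkj ⟨hki.1, by omega⟩
    rcases mem_insert.1 (start_mem D (k.val + 1)) with h0 | h0
    · omega
    · exact ⟨_, h0, hgt, hki.2⟩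
  · rintro ⟨d, hd, hjd, hdi⟩
    have hd1 := mem_Ico.1 (hD hd)
    refine card_lt_card ⟨fun k hk => ?_, fun hsub => ?_⟩
    · simp only [S, mem_filter, mem_univ, true_and] at hk ⊢
      exact ⟨hk.1, by omega⟩
    · have hmem : (⟨d - 1, by omega⟩ : Fin n) ∈ S i := by
        simp only [S, mem_filter, mem_univ, true_and]
        rw [Nat.sub_add_cancel hd1.1, start_self hd]
        exact ⟨hd1.2, hdi⟩
      have := hsub hmem
      simp only [S, mem_filter, mem_univ, true_and] at this
      rw [Nat.sub_add_cancel hd1.1, start_self hd] at this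
      omega

theorem mem_parabolic_iff {F : Type*} [Field F] {D : Finset ℕ} (hD : D ⊆ Ico 1 n) (g : Matrix.GeneralLinearGroup (Fin n) F) :
    g ∈ Cfsg.parabolicGL n F (comp n D) ↔
      ∀ d ∈ D, ∀ i j : Fin n, j.val < d → d ≤ i.val → (g : Matrix (Fin n) (Fin n) F) i j = 0 := by
  constructor
  · exact fun h d hd i j hj hi => h ((compLabel_lt_iff hD i j).2 ⟨d, hd, hj, hi⟩)
  · intro h i j hlt
    obtain ⟨d, hd, hj, hi⟩ := (compLabel_lt_iff hD i j).1 hlt
    exact h d hd i j hj hi

theorem sum_hessenberg {M : Type*} [AddCommMonoid M] (f : Equiv.Perm (Fin n) → M)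
    [DecidablePred fun κ : Equiv.Perm (Fin n) => ∀ i, (κ i).val ≤ 1 + i.val] :
    ∑ κ : Equiv.Perm (Fin n), (if ∀ i, (κ i).val ≤ 1 + i.val then f κ else 0) =
      ∑ D ∈ (Ico 1 n).powerset, f (kappa n D) := by
  rw [← sum_filter]
  refine sum_bij' (fun κ _ => cutsOf κ) (fun D _ => kappa n D) ?_ ?_ ?_ ?_ ?_
  · exact fun κ _ => mem_powerset.2 (cutsOf_subset κ)
  · exact fun D _ => mem_filter.2 ⟨mem_univ _, kappa_le D⟩
  · exact fun κ hκ => kappa_cutsOf (mem_filter.1 hκ).2
  · exact fun D hD => kappa_inj_cuts (cutsOf_subset _) (mem_powerset.1 hD) (kappa_cutsOf (kappa_le D))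
  · exact fun κ hκ => by rw [kappa_cutsOf (mem_filter.1 hκ).2]

end CfsgLib.GLSt
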