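import Cfsg.Agent.Lib.Char.Exceptional.GLSteinberg.Mobius
import Cfsg.Agent.Lib.Char.Exceptional.GLSteinberg.Hessenberg

/-!
# Fixed cosets of parabolic subgroups and chains of invariant subspaces
-/

set_option autoImplicit false

namespace CfsgLib.GLSt

open Finset
open scoped MatrixGroups

variable {n : ℕ} {F : Type*} [Field F]

/-- The linear map of an invertible matrix. -/
noncomputable def lin (g : GL (Fin n) F) : Module.End F (Fin n → F) :=
  Matrix.mulVecLin (g : Matrix (Fin n) (Fin n) F)

theorem lin_apply (g : GL (Fin n) F) (v : Fin n → F) : lin g v = (g : Matrix (Fin n) (Fin n) F).mulVec v := rfl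

theorem map_lin_mul (a b : GL (Fin n) F) (W : Submodule F (Fin n → F)) :
    W.map (lin (a * b)) = (W.map (lin b)).map (lin a) := by
  rw [← Submodule.map_comp]
  congr 1
  simp [lin, Matrix.mulVecLin_mul]

theorem map_lin_one (W : Submodule F (Fin n → F)) : W.map (lin (1 : GL (Fin n) F)) = W := by
  have : lin (1 : GL (Fin n) F) = LinearMap.id := by simp [lin]
  rw [this, Submodule.map_id]

theorem lin_injective (g : GL (Fin n) F) : Function.Injective (lin g) := by
  intro u v h
  rw [lin_apply, lin_apply] at h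
  exact Matrix.mulVec_injective_iff_isUnit.2 g.isUnit h

theorem finrank_map_lin (g : GL (Fin n) F) (W : Submodule F (Fin n → F)) :
    Module.finrank F (W.map (lin g)) = Module.finrank F W :=
  (Submodule.equivMapOfInjective _ (lin_injective g) W).finrank_eq.symm

theorem map_le_map_iff_conj (y z : GL (Fin n) F) (W W' : Submodule F (Fin n → F)) :
    W.map (lin (y⁻¹ * z)) ≤ W' ↔ W.map (lin z) ≤ W'.map (lin y) := by
  constructor
  · intro h
    have h1 := Submodule.map_mono (f := lin y) h
    rwa [← map_lin_mul, mul_inv_cancel_left] at h1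
  · intro h
    have h1 := Submodule.map_mono (f := lin y⁻¹) h
    rwa [← map_lin_mul, ← map_lin_mul, inv_mul_cancel, map_lin_one] at h1

/-- The standard subspace of dimension `d`. -/
def std (n : ℕ) (F : Type*) [Field F] (d : ℕ) : Submodule F (Fin n → F) where
  carrier := {v | ∀ i : Fin n, d ≤ i.val → v i = 0}
  add_mem' ha hb i hi := by rw [Pi.add_apply, ha i hi, hb i hi, add_zero]
  zero_mem' _ _ := rfl
  smul_mem' c v hv i hi := by rw [Pi.smul_apply, hv i hi, smul_zero]

theorem finrank_std {d : ℕ} (hd : d ≤ n) : Module.finrank F (std n F d) = d := by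
  let e : std n F d ≃ₗ[F] (Fin d → F) :=
    { toFun := fun v j => v.1 ⟨j.val, j.2.trans_le hd⟩
      map_add' := fun _ _ => rfl
      map_smul' := fun _ _ => rfl
      invFun := fun w => ⟨fun i => if h : i.val < d then w ⟨i.val, h⟩ else 0,
        fun i hi => dif_neg (Nat.not_lt.2 hi)⟩
      left_inv := fun v => by
        apply Subtype.ext
        funext i
        by_cases h : i.val < d
        · simp [h]
        · simp only [dif_neg h]; exact (v.2 i (Nat.not_lt.1 h)).symm
      right_inv := fun w => by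
        funext j
        simp [j.2] }
  rw [e.finrank_eq, Module.finrank_fin_fun]

theorem map_std_le_iff (h : GL (Fin n) F) (d : ℕ) :
    (std n F d).map (lin h) ≤ std n F d ↔
      ∀ i j : Fin n, j.val < d → d ≤ i.val → (h : Matrix (Fin n) (Fin n) F) i j = 0 := by
  constructor
  · intro hle i j hj hi
    have hs : (Pi.single j 1 : Fin n → F) ∈ std n F d := fun k hk => by
      rw [Pi.single_eq_of_ne]
      intro hkj
      subst hkj
      omega
    have := hle (Submodule.mem_map_of_mem hs) i hi
    rwa [lin_apply, Matrix.mulVec_single_one] at this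
  · rintro hz _ ⟨v, hv, rfl⟩ i hi
    rw [lin_apply, Matrix.mulVec, dotProduct]
    refine sum_eq_zero fun j _ => ?_
    by_cases hj : j.val < d
    · rw [hz i j hj hi, zero_mul]
    · rw [hv j (Nat.not_lt.1 hj), mul_zero]

theorem mem_parabolic_iff_std {D : Finset ℕ} (hD : D ⊆ Ico 1 n) (h : GL (Fin n) F) :
    h ∈ Cfsg.parabolicGL n F (comp n D) ↔ ∀ d ∈ D, (std n F d).map (lin h) ≤ std n F d := by
  rw [mem_parabolic_iff hD]
  exact forall₂_congr fun d _ => (map_std_le_iff h d).symm

/-- A basis adapted to a chain. -/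
theorem exists_adapted {S : Finset (Submodule F (Fin n → F))} (hc : IsChain (· ≤ ·) (S : Set (Submodule F (Fin n → F))))
    (htop : ⊤ ∈ S) : ∀ k ≤ n, ∃ v : Fin k → (Fin n → F), LinearIndependent F v ∧
      ∀ W ∈ S, ∀ i : Fin k, i.val < Module.finrank F W → v i ∈ W := by
  intro k
  induction k with
  | zero => exact fun _ => ⟨Fin.elim0, linearIndependent_empty_type, fun _ _ i => i.elim0⟩
  | succ k ih =>
    intro hk
    obtain ⟨v, hv, hvW⟩ := ih (by omega)
    classical
    let T := S.filter fun W : Submodule F (Fin n → F) => k < Module.finrank F W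
    have hne : T.Nonempty := ⟨⊤, mem_filter.2 ⟨htop, by rw [finrank_top, Module.finrank_fin_fun]; omega⟩⟩
    obtain ⟨W0, hW0, hmin⟩ := T.exists_minimal hne
    obtain ⟨hW0S, hW0k⟩ := mem_filter.1 hW0
    have hleast : ∀ W ∈ S, k < Module.finrank F W → W0 ≤ W := fun W hW hWk => by
      rcases hc.total hW0S hW with h | h
      · exact h
      · exact hmin (mem_filter.2 ⟨hW, hWk⟩) h
    have hspan : Submodule.span F (Set.range v) ≤ W0 :=
      Submodule.span_le.2 (by rintro _ ⟨i, rfl⟩; exact hvW W0 hW0S i (i.2.trans hW0k))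
    have hlt : Submodule.span F (Set.range v) < W0 := lt_of_le_of_ne hspan fun h => by
      rw [← h, finrank_span_eq_card hv, Fintype.card_fin] at hW0k
      exact lt_irrefl _ hW0k
    obtain ⟨u, hu, hu'⟩ := SetLike.exists_of_lt hlt
    refine ⟨Fin.snoc v u, linearIndependent_finSnoc.2 ⟨hv, hu'⟩, fun W hW i hi => ?_⟩
    induction i using Fin.lastCases with
    | last => rw [Fin.snoc_last]; exact hleast W hW hi hu
    | cast i => rw [Fin.snoc_castSucc]; exact hvW W hW i hi

theorem exists_gl_flag {S : Finset (Submodule F (Fin n → F))}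
    (hc : IsChain (· ≤ ·) (S : Set (Submodule F (Fin n → F)))) :
    ∃ y : GL (Fin n) F, ∀ W ∈ S, (std n F (Module.finrank F W)).map (lin y) = W := by
  classical
  obtain ⟨v, hv, hvW⟩ := exists_adapted (S := insert ⊤ S)
    (by rw [coe_insert]; exact hc.insert fun W _ _ => Or.inr le_top) (mem_insert_self _ _) n le_rfl
  let M : Matrix (Fin n) (Fin n) F := Matrix.of fun i j => v j i
  have hM : IsUnit M := Matrix.linearIndependent_cols_iff_isUnit.1 hv
  refine ⟨hM.unit, fun W hW => ?_⟩
  refine Submodule.eq_of_le_of_finrank_eq ?_ ?_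
  · rintro _ ⟨u, hu, rfl⟩
    have : lin hM.unit u = ∑ j, u j • v j := by
      funext i
      simp [lin_apply, M, Matrix.mulVec, dotProduct, Finset.sum_apply, mul_comm]
    rw [this]
    refine Submodule.sum_mem _ fun j _ => ?_
    by_cases hj : j.val < Module.finrank F W
    · exact Submodule.smul_mem _ _ (hvW W (mem_insert_of_mem hW) j hj)
    · rw [hu j (Nat.not_lt.1 hj), zero_smul]; exact Submodule.zero_mem _
  · rw [finrank_map_lin, finrank_std]
    exact (Submodule.finrank_le W).trans_eq (Module.finrank_fin_fun F)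

variable [Fintype F]

open scoped Classical in
/-- Fixed cosets are chains of invariant subspaces. -/
theorem card_fixedBy {L : Type*} [Lattice L] [BoundedOrder L] [Fintype L] (ι : L ↪o Submodule F (Fin n → F))
    (hbot : ι ⊥ = ⊥) (htop : ι ⊤ = ⊤) (g : GL (Fin n) F)
    (hinv : ∀ W, W ∈ Set.range ι ↔ W.map (lin g) ≤ W) {D : Finset ℕ} (hD : D ⊆ Ico 1 n) :
    Nat.card (MulAction.fixedBy (GL (Fin n) F ⧸ Cfsg.parabolicGL n F (comp n D)) g) =
      ((chains (⊤ : L)).filter fun S => S.image (fun W => Module.finrank F (ι W)) = D).card := by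
  set P := Cfsg.parabolicGL n F (comp n D) with hPdef
  let fl : GL (Fin n) F → ℕ → Submodule F (Fin n → F) := fun y d => (std n F d).map (lin y)
  have hd_le : ∀ d ∈ D, d ≤ n := fun d hd => (mem_Ico.1 (hD hd)).2.le
  have hrk : ∀ (y : GL (Fin n) F), ∀ d ∈ D, Module.finrank F (fl y d) = d := fun y d hd => by
    simp only [fl]; rw [finrank_map_lin, finrank_std (hd_le d hd)]
  have hcoset : ∀ y z : GL (Fin n) F, (QuotientGroup.mk y : GL (Fin n) F ⧸ P) = QuotientGroup.mk z ↔
      ∀ d ∈ D, fl z d = fl y d := by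
    intro y z
    rw [QuotientGroup.eq, hPdef, mem_parabolic_iff_std hD]
    refine forall₂_congr fun d hd => ?_
    rw [map_le_map_iff_conj]
    exact ⟨fun h => Submodule.eq_of_le_of_finrank_eq h (by rw [hrk z d hd, hrk y d hd]), fun h => h.le⟩
  have hfix : ∀ y : GL (Fin n) F, g • (QuotientGroup.mk y : GL (Fin n) F ⧸ P) = QuotientGroup.mk y ↔
      ∀ d ∈ D, fl y d ∈ Set.range ι := by
    intro y
    rw [MulAction.Quotient.smul_mk, eq_comm, hcoset]
    refine forall₂_congr fun d hd => ?_
    rw [hinv]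
    simp only [fl, smul_eq_mul, map_lin_mul]
    exact ⟨fun h => h.le, fun h => Submodule.eq_of_le_of_finrank_eq h (by rw [finrank_map_lin])⟩
  let X := (chains (⊤ : L)).filter fun S => S.image (fun W => Module.finrank F (ι W)) = D
  rw [← Fintype.card_coe X, ← Nat.card_eq_fintype_card]
  have hX : ∀ S : X, ∃ y : GL (Fin n) F, ∀ W ∈ S.1, fl y (Module.finrank F (ι W)) = ι W := by
    intro S
    have hc := (mem_chains.1 (mem_filter.1 S.2).1).2
    obtain ⟨y, hy⟩ := exists_gl_flag (S := S.1.image ι) (by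
      rw [coe_image]
      rintro _ ⟨a, ha, rfl⟩ _ ⟨b, hb, rfl⟩ -
      exact (hc.total ha hb).imp (fun h => ι.monotone h) fun h => ι.monotone h)
    exact ⟨y, fun W hW => hy _ (mem_image_of_mem _ hW)⟩
  choose y hy using hX
  have hmemD : ∀ (S : X), ∀ W ∈ S.1, Module.finrank F (ι W) ∈ D := fun S W hW =>
    (mem_filter.1 S.2).2 ▸ mem_image_of_mem _ hW
  have hfixed : ∀ S : X, (QuotientGroup.mk (y S) : GL (Fin n) F ⧸ P) ∈ MulAction.fixedBy _ g := by
    intro S
    rw [MulAction.mem_fixedBy, hfix]
    intro d hd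
    rw [← (mem_filter.1 S.2).2] at hd
    obtain ⟨W, hW, rfl⟩ := mem_image.1 hd
    exact ⟨W, (hy S W hW).symm⟩
  symm
  refine Nat.card_eq_of_bijective (fun S => (⟨_, hfixed S⟩ : MulAction.fixedBy (GL (Fin n) F ⧸ P) g)) ⟨?_, ?_⟩
  · intro S S' h
    have h' := (hcoset _ _).1 (congrArg Subtype.val h)
    have key : ∀ A B : X, (∀ d ∈ D, fl (y A) d = fl (y B) d) → A.1 ⊆ B.1 := by
      intro A B hAB W hW
      have hd : Module.finrank F (ι W) ∈ B.1.image (fun V => Module.finrank F (ι V)) :=
        (mem_filter.1 B.2).2.symm ▸ hmemD A W hW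
      obtain ⟨V, hV, hVd⟩ := mem_image.1 hd
      have : ι W = ι V := by
        rw [← hy A W hW, hAB _ (hmemD A W hW), ← hVd, hy B V hV]
      rwa [ι.injective this]
    exact Subtype.ext (Subset.antisymm (key S S' fun d hd => (h' d hd).symm) (key S' S h'))
  · rintro ⟨q, hq⟩
    obtain ⟨z, rfl⟩ := QuotientGroup.mk_surjective q
    have hz := (hfix z).1 hq
    choose pre hpre using hz
    let S : Finset L := D.attach.image fun d => pre d.1 d.2
    have hdim : S.image (fun W => Module.finrank F (ι W)) = D := by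
      rw [image_image]
      ext d
      simp only [mem_image, mem_attach, true_and, Function.comp_apply, Subtype.exists]
      constructor
      · rintro ⟨e, he, rfl⟩; rw [hpre, hrk z e he]; exact he
      · exact fun hd => ⟨d, hd, by rw [hpre, hrk z d hd]⟩
    have hS : S ∈ X := by
      refine mem_filter.2 ⟨mem_chains.2 ⟨fun W hW => ?_, ?_⟩, hdim⟩
      · obtain ⟨⟨d, hd⟩, -, rfl⟩ := mem_image.1 hW
        have hd1 := mem_Ico.1 (hD hd)
        have hr : Module.finrank F (ι (pre d hd)) = d := by rw [hpre, hrk z d hd]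
        refine ⟨bot_lt_iff_ne_bot.2 fun h => ?_, lt_top_iff_ne_top.2 fun h => ?_⟩
        · rw [h, hbot, finrank_bot] at hr; omega
        · rw [h, htop, finrank_top, Module.finrank_fin_fun] at hr; omega
      · intro A hA B hB _
        obtain ⟨⟨a, ha⟩, -, rfl⟩ := mem_image.1 hA
        obtain ⟨⟨b, hb⟩, -, rfl⟩ := mem_image.1 hB
        have hmono : ∀ a b, a ≤ b → fl z a ≤ fl z b := fun a b hab =>
          Submodule.map_mono fun v hv i hi => hv i (hab.trans hi)
        rcases le_total a b with hab | hab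
        · exact Or.inl (ι.le_iff_le.1 (by rw [hpre, hpre]; exact hmono a b hab))
        · exact Or.inr (ι.le_iff_le.1 (by rw [hpre, hpre]; exact hmono b a hab))
    refine ⟨⟨S, hS⟩, Subtype.ext ((hcoset _ _).2 fun d hd => ?_)⟩
    have hm : pre d hd ∈ S := mem_image.2 ⟨⟨d, hd⟩, mem_attach _ _, rfl⟩
    have := hy ⟨S, hS⟩ _ hm
    rw [hpre, hrk z d hd] at this
    exact this.symm

end CfsgLib.GLSt
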