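import Cfsg.Agent.Lib.Char.Exceptional.GLSteinberg.Mobius

/-!
# The Möbius function of the lattice of submodules of a finite semisimple `F[X]`-module
-/

set_option autoImplicit false

namespace CfsgLib.GLSt

open Polynomial UniqueFactorizationMonoid

variable (F : Type*) [Field F]

section

variable (N : Type*) [AddCommGroup N] [Module F[X] N] [Module F N] [IsScalarTower F F[X] N]

/-- Multiplication by the variable, as an `F`-linear map. -/
noncomputable def actX : Module.End F N := Algebra.lsmul F F N (X : F[X])

variable {F N}

theorem actX_apply (v : N) : actX F N v = (X : F[X]) • v := rfl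

theorem aeval_actX (f : F[X]) (v : N) : aeval (actX F N) f v = f • v := by
  rw [actX, aeval_algHom_apply, aeval_X_left_apply]
  rfl

variable (F N) in
/-- The characteristic polynomial. -/
noncomputable def cp [Finite N] : F[X] := (actX F N).charpoly

variable [Finite N]

theorem cp_monic : (cp F N).Monic := LinearMap.charpoly_monic _

theorem cp_natDegree : (cp F N).natDegree = Module.finrank F N := LinearMap.charpoly_natDegree _

theorem cp_smul (v : N) : cp F N • v = 0 := by
  rw [← aeval_actX, cp, LinearMap.aeval_self_charpoly]; rfl

theorem cp_congr {N' : Type*} [AddCommGroup N'] [Module F[X] N'] [Module F N'] [IsScalarTower F F[X] N'] [Finite N']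
    (e : N ≃ₗ[F[X]] N') : cp F N = cp F N' := by
  rw [cp, cp, ← LinearEquiv.charpoly_conj (e.restrictScalars F) (actX F N)]
  congr 1
  ext v
  simp [LinearEquiv.conj_apply, actX_apply]

theorem cp_prod (N' : Type*) [AddCommGroup N'] [Module F[X] N'] [Module F N'] [IsScalarTower F F[X] N'] [Finite N'] :
    cp F (N × N') = cp F N * cp F N' := by
  rw [cp, cp, cp, ← LinearMap.charpoly_prodMap]
  congr 1

theorem cp_compl {p q : Submodule F[X] N} (h : IsCompl p q) : cp F N = cp F p * cp F q := by
  rw [← cp_prod, cp_congr (Submodule.prodEquivOfIsCompl p q h)]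

theorem cp_subsingleton [Subsingleton N] : cp F N = 1 := by
  refine (cp_monic.natDegree_eq_zero).1 ?_
  rw [cp_natDegree, Module.finrank_zero_of_subsingleton]

theorem simple_data [IsSimpleModule F[X] N] :
    Irreducible (cp F N) ∧ Nonempty ((F[X] ⧸ Ideal.span {cp F N}) ≃ₗ[F[X]] N) ∧
      ∃ a : N, ∀ b : N, ∃ r : F[X], r • a = b := by
  classical
  haveI := IsSimpleModule.nontrivial F[X] N
  obtain ⟨a, ha⟩ := exists_ne (0 : N)
  have hsurj : Function.Surjective (LinearMap.toSpanSingleton F[X] N a) :=
    IsSimpleModule.toSpanSingleton_surjective F[X] ha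
  let φ := LinearMap.quotKerEquivOfSurjective _ hsurj
  have hmax : Ideal.IsMaximal (LinearMap.ker (LinearMap.toSpanSingleton F[X] N a) : Ideal F[X]) :=
    Ideal.isMaximal_def.2 (isSimpleModule_iff_isCoatom.1 (IsSimpleModule.congr φ))
  obtain ⟨f, hf⟩ := (IsPrincipalIdealRing.principal (LinearMap.ker (LinearMap.toSpanSingleton F[X] N a))).principal
  have hf' : LinearMap.ker (LinearMap.toSpanSingleton F[X] N a) = Ideal.span {f} := hf
  have hmem : f ∣ cp F N := by
    rw [← Ideal.mem_span_singleton, ← hf', LinearMap.mem_ker, LinearMap.toSpanSingleton_apply, cp_smul]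
  have hne : f ≠ 0 := by
    rintro rfl
    exact cp_monic.ne_zero (zero_dvd_iff.1 hmem)
  rw [hf'] at hmax
  have hirr : Irreducible f := ((Ideal.span_singleton_prime hne).1 hmax.isPrime).irreducible
  let e : (F[X] ⧸ Ideal.span {f}) ≃ₗ[F[X]] N := (Submodule.quotEquivOfEq _ _ hf'.symm).trans φ
  have hdeg : (cp F N).natDegree ≤ f.natDegree := by
    rw [cp_natDegree, ← (e.restrictScalars F).finrank_eq, finrank_quotient_span_eq_natDegree]
  have hassoc : Associated f (cp F N) := by
    obtain ⟨c, hc⟩ := hmem
    have hc0 : c ≠ 0 := fun h => cp_monic.ne_zero (by rw [hc, h, mul_zero] : cp F N = 0)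
    have : c.natDegree = 0 := by
      rw [hc, natDegree_mul hne hc0] at hdeg; omega
    have hu : IsUnit c := isUnit_iff_degree_eq_zero.2 (by rw [degree_eq_natDegree hc0, this]; rfl)
    exact ⟨hu.unit, hc.symm⟩
  refine ⟨hassoc.irreducible hirr, ⟨?_⟩, a, hsurj⟩
  rw [← Ideal.span_singleton_eq_span_singleton.2 hassoc]
  exact e

variable [Fintype F]

theorem card_end_simple [IsSimpleModule F[X] N] :
    Nat.card (N →ₗ[F[X]] N) = Fintype.card F ^ (cp F N).natDegree := by
  obtain ⟨-, -, a, ha⟩ := simple_data (F := F) (N := N)
  have h1 : Nat.card N = Fintype.card F ^ (cp F N).natDegree := by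
    rw [cp_natDegree, ← Nat.card_eq_fintype_card]
    exact Module.natCard_eq_pow_finrank
  rw [← h1]
  refine Nat.card_eq_of_bijective (fun φ => φ a) ⟨fun φ ψ h => LinearMap.ext fun b => ?_, fun b => ?_⟩
  · obtain ⟨r, rfl⟩ := ha b
    simp only at h
    rw [map_smul, map_smul, h]
  · obtain ⟨r, rfl⟩ := ha b
    exact ⟨r • LinearMap.id, rfl⟩

theorem card_hom_compl {A : Type*} [AddCommGroup A] [Module F[X] A] {p q : Submodule F[X] N} (h : IsCompl p q) :
    Nat.card (N →ₗ[F[X]] A) = Nat.card (p →ₗ[F[X]] A) * Nat.card (q →ₗ[F[X]] A) := by
  rw [← Nat.card_prod]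
  exact Nat.card_congr ((LinearEquiv.arrowCongr (Submodule.prodEquivOfIsCompl p q h).symm (LinearEquiv.refl _ A)).toEquiv.trans
    (LinearMap.coprodEquiv F[X]).symm.toEquiv)

end

section

variable {F} [DecidableEq F]

/-- The exponent in the value. -/
noncomputable def valExp (s : Multiset F[X]) : ℕ := ∑ f ∈ s.toFinset, f.natDegree * (s.count f).choose 2

theorem valExp_cons (f : F[X]) (s : Multiset F[X]) : valExp (f ::ₘ s) = valExp s + f.natDegree * s.count f := by
  have h1 : valExp s = ∑ g ∈ insert f s.toFinset, g.natDegree * (s.count g).choose 2 := by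
    refine Finset.sum_subset (Finset.subset_insert _ _) fun g _ hg => ?_
    rw [Multiset.count_eq_zero.2 (by simpa using hg)]
    simp
  rw [h1, valExp, Multiset.toFinset_cons, Finset.sum_eq_add_sum_sdiff_singleton_of_mem (Finset.mem_insert_self f _),
    Finset.sum_eq_add_sum_sdiff_singleton_of_mem (Finset.mem_insert_self f _), Multiset.count_cons_self,
    Nat.choose_succ_succ', Nat.choose_one_right, mul_add]
  rw [Finset.sum_congr rfl fun g hg => by
    rw [Multiset.count_cons_of_ne (by simpa using (Finset.mem_sdiff.1 hg).2)]]
  ring

variable [Fintype F]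

/-- The value of the Möbius function. -/
noncomputable def val (s : Multiset F[X]) : ℂ := (-1) ^ s.card * (Fintype.card F : ℂ) ^ valExp s

theorem val_cons (f : F[X]) (s : Multiset F[X]) :
    val (f ::ₘ s) = -((Fintype.card F : ℂ) ^ (f.natDegree * s.count f) * val s) := by
  rw [val, val, valExp_cons, Multiset.card_cons, pow_succ, pow_add]
  ring

variable {M : Type*} [AddCommGroup M] [Module F[X] M] [Module F M] [IsScalarTower F F[X] M] [Finite M]
  [IsSemisimpleModule F[X] M]

theorem factors_simple (A : Submodule F[X] M) [IsSimpleModule F[X] A] : normalizedFactors (cp F A) = {cp F A} := by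
  rw [normalizedFactors_irreducible (simple_data (F := F) (N := A)).1, cp_monic.normalize_eq_self]

variable [Fintype (Submodule F[X] M)]

theorem mob_eq (U : Submodule F[X] M) :
    mob U = val (normalizedFactors (cp F U)) ∧ ∀ A : Submodule F[X] M, IsSimpleModule F[X] A →
      Nat.card (U →ₗ[F[X]] A) =
        Fintype.card F ^ ((cp F A).natDegree * (normalizedFactors (cp F U)).count (cp F A)) := by
  classical
  induction U using WellFoundedLT.induction with
  | _ U ih =>
    by_cases hU : U = ⊥
    · subst hU
      have h1 : cp F (⊥ : Submodule F[X] M) = 1 := cp_subsingleton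
      refine ⟨by rw [mob_bot, h1, normalizedFactors_one]; simp [val, valExp], fun A _ => ?_⟩
      rw [h1, normalizedFactors_one, Multiset.count_zero, mul_zero, pow_zero]
      exact Nat.card_unique
    · obtain ⟨A, hAatom, hAU⟩ := (eq_bot_or_exists_atom_le U).resolve_left hU
      haveI : IsSimpleModule F[X] A := isSimpleModule_iff_isAtom.2 hAatom
      obtain ⟨C, hC⟩ := exists_isCompl A
      have hcomplU : ∀ V ≤ U, V ⊔ A = U → V ≠ U →
          IsCompl (A.comap U.subtype) (V.comap U.subtype) := by
        intro V hV hsup hne
        have hinf : A ⊓ V = ⊥ := by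
          rcases hAatom.le_iff.1 (inf_le_left : A ⊓ V ≤ A) with h | h
          · exact h
          · exact absurd (by rw [← hsup, sup_eq_left.2 (inf_eq_left.1 h)]) hne
        refine ⟨disjoint_iff.2 ?_, codisjoint_iff.2 ?_⟩ <;>
          apply Submodule.map_injective_of_injective U.injective_subtype
        · rw [Submodule.map_inf _ U.injective_subtype, Submodule.map_comap_subtype, Submodule.map_comap_subtype,
            inf_eq_right.2 hAU, inf_eq_right.2 hV, hinf, Submodule.map_bot]
        · rw [Submodule.map_sup, Submodule.map_comap_subtype, Submodule.map_comap_subtype, inf_eq_right.2 hAU,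
            inf_eq_right.2 hV, sup_comm, hsup, Submodule.map_subtype_top]
      let eA : (A.comap U.subtype) ≃ₗ[F[X]] A := Submodule.comapSubtypeEquivOfLe hAU
      have hcpU : ∀ V ≤ U, V ⊔ A = U → V ≠ U → cp F U = cp F A * cp F V := by
        intro V hV hsup hne
        have e1 : cp F (A.comap U.subtype) = cp F A := cp_congr eA
        have e2 : cp F (V.comap U.subtype) = cp F V := cp_congr (Submodule.comapSubtypeEquivOfLe hV)
        rw [cp_compl (hcomplU V hV hsup hne), e1, e2]
      set W := C ⊓ U with hWdef
      have hWU : W ≤ U := inf_le_right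
      have hWsup : W ⊔ A = U := by
        rw [hWdef, sup_comm, ← sup_inf_assoc_of_le _ hAU, hC.sup_eq_top, top_inf_eq]
      have hWne : W ≠ U := fun h => hAatom.1 (le_bot_iff.1 (hC.inf_eq_bot ▸ le_inf le_rfl
        ((hAU.trans h.ge).trans inf_le_left)))
      have hWlt : W < U := lt_of_le_of_ne hWU hWne
      obtain ⟨hmW, hhW⟩ := ih W hWlt
      have hfac : normalizedFactors (cp F U) = cp F A ::ₘ normalizedFactors (cp F W) := by
        rw [hcpU W hWU hWsup hWne, normalizedFactors_mul cp_monic.ne_zero cp_monic.ne_zero, factors_simple,
          Multiset.singleton_add]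
      refine ⟨?_, fun B hB => ?_⟩
      · have hw : ∑ V ∈ Finset.univ.filter (fun V => V ⊔ A = U), mob V = 0 := by
          convert sum_mob_sup A hAatom.1 U hAU using 2
          ext V
          simp
        rw [← Finset.add_sum_erase _ _ (show U ∈ Finset.univ.filter (fun V => V ⊔ A = U) by simp [hAU])] at hw
        have hconst : ∀ V ∈ (Finset.univ.filter (fun V => V ⊔ A = U)).erase U, mob V = mob W := by
          intro V hV
          simp only [Finset.mem_erase, Finset.mem_filter, Finset.mem_univ, true_and] at hV
          have hVle : V ≤ U := le_sup_left.trans hV.2.le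
          rw [hmW, (ih V (lt_of_le_of_ne hVle hV.1)).1,
            mul_left_cancel₀ cp_monic.ne_zero ((hcpU V hVle hV.2 hV.1).symm.trans (hcpU W hWU hWsup hWne))]
        rw [Finset.sum_congr rfl hconst, Finset.sum_const, nsmul_eq_mul] at hw
        have hcount : ((Finset.univ.filter (fun V => V ⊔ A = U)).erase U).card = Nat.card (W →ₗ[F[X]] A) := by
          rw [← Fintype.card_coe, ← Nat.card_eq_fintype_card]
          let e1 : ↥((Finset.univ.filter (fun V => V ⊔ A = U)).erase U) ≃
              {q : Submodule F[X] U // IsCompl (A.comap U.subtype) q} :=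
            { toFun := fun V => ⟨V.1.comap U.subtype, by
                have hV := V.2
                simp only [Finset.mem_erase, Finset.mem_filter, Finset.mem_univ, true_and] at hV
                exact hcomplU V.1 (le_sup_left.trans hV.2.le) hV.2 hV.1⟩
              invFun := fun q => ⟨q.1.map U.subtype, by
                have hmap : (A.comap U.subtype).map U.subtype = A := by
                  rw [Submodule.map_comap_subtype, inf_eq_right.2 hAU]
                refine Finset.mem_erase.2 ⟨fun h => hAatom.1 ?_, Finset.mem_filter.2 ⟨Finset.mem_univ _, ?_⟩⟩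
                · have hq : q.1 = ⊤ := Submodule.map_injective_of_injective U.injective_subtype
                    (h.trans (Submodule.map_subtype_top U).symm)
                  have := q.2.disjoint
                  rw [hq, disjoint_top] at this
                  rw [← hmap, this, Submodule.map_bot]
                · calc q.1.map U.subtype ⊔ A = q.1.map U.subtype ⊔ (A.comap U.subtype).map U.subtype := by rw [hmap]
                    _ = U := by rw [← Submodule.map_sup, q.2.symm.sup_eq_top, Submodule.map_subtype_top]⟩
              left_inv := fun V => Subtype.ext (by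
                have hV := V.2
                simp only [Finset.mem_erase, Finset.mem_filter, Finset.mem_univ, true_and] at hV
                show (V.1.comap U.subtype).map U.subtype = V.1
                rw [Submodule.map_comap_subtype, inf_eq_right.2 (le_sup_left.trans hV.2.le)])
              right_inv := fun q => Subtype.ext (Submodule.comap_map_eq_of_injective U.injective_subtype q.1) }
          have hWc := hcomplU W hWU hWsup hWne
          let e2 : {f : U →ₗ[F[X]] (A.comap U.subtype) // ∀ x : A.comap U.subtype, f x = x} ≃
              ((W.comap U.subtype) →ₗ[F[X]] (A.comap U.subtype)) :=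
            { toFun := fun f => f.1.comp (W.comap U.subtype).subtype
              invFun := fun φ => ⟨LinearMap.ofIsCompl (F := ↥(A.comap U.subtype)) hWc LinearMap.id φ,
                fun x => by simp⟩
              left_inv := fun f => Subtype.ext (by
                show LinearMap.ofIsCompl (F := ↥(A.comap U.subtype)) hWc LinearMap.id (f.1.comp (W.comap U.subtype).subtype) = f.1
                exact LinearMap.ofIsCompl_eq hWc (fun x => (f.2 x).symm) (fun x => rfl))
              right_inv := fun φ => LinearMap.ext fun x => by simp }
          exact Nat.card_congr (e1.trans ((Submodule.isComplEquivProj _).trans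
            (e2.trans (LinearEquiv.arrowCongr (Submodule.comapSubtypeEquivOfLe hWU) eA).toEquiv)))
        rw [hcount, hhW A inferInstance] at hw
        rw [hfac, val_cons, ← hmW]
        push_cast at hw
        linear_combination hw
      · rw [card_hom_compl (hcomplU W hWU hWsup hWne),
          Nat.card_congr (LinearEquiv.arrowCongr eA (LinearEquiv.refl F[X] B)).toEquiv,
          Nat.card_congr (LinearEquiv.arrowCongr (Submodule.comapSubtypeEquivOfLe hWU) (LinearEquiv.refl F[X] B)).toEquiv,
          hhW B hB, hfac, Multiset.count_cons]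
        haveI := hB
        by_cases hAB : cp F B = cp F A
        · rw [if_pos hAB, mul_add, mul_one, pow_add, mul_comm]
          congr 1
          obtain ⟨-, ⟨α⟩, -⟩ := simple_data (F := F) (N := A)
          obtain ⟨-, ⟨β⟩, -⟩ := simple_data (F := F) (N := B)
          rw [hAB] at β
          rw [hAB, ← card_end_simple (N := A)]
          exact Nat.card_congr (LinearEquiv.arrowCongr (LinearEquiv.refl F[X] A) (β.symm.trans α)).toEquiv
        · rw [if_neg hAB, add_zero]
          have hzero : ∀ φ : A →ₗ[F[X]] B, φ = 0 := fun φ => by
            rcases LinearMap.bijective_or_eq_zero φ with h | h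
            · exact absurd (cp_congr (LinearEquiv.ofBijective φ h)).symm hAB
            · exact h
          haveI : Unique (A →ₗ[F[X]] B) := ⟨⟨0⟩, hzero⟩
          rw [Nat.card_unique, one_mul]

end

end CfsgLib.GLSt
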