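import Cfsg.Agent.Lib.Char.Exceptional.GLSteinberg.Flags
import Cfsg.Agent.Lib.Char.Exceptional.GLSteinberg.Modules

/-!
# The Steinberg character of the general linear group at semisimple elements
-/

set_option autoImplicit false

namespace CfsgLib.GLSt

open Polynomial UniqueFactorizationMonoid
open scoped MatrixGroups

variable {n : ℕ} {F : Type*} [Field F] [Fintype F]

theorem unipotent_one_eq_chains {L : Type*} [Lattice L] [BoundedOrder L] [Fintype L]
    (ι : L ↪o Submodule F (Fin n → F)) (hbot : ι ⊥ = ⊥) (htop : ι ⊤ = ⊤) (g : GL (Fin n) F)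
    (hinv : ∀ W, W ∈ Set.range ι ↔ W.map (lin g) ≤ W) :
    Cfsg.unipotentCharacterGL n F (fun _ => 1) g = (-1 : ℂ) ^ n * mob (⊤ : L) := by
  classical
  rw [Cfsg.unipotentCharacterGL]
  rw [sum_hessenberg (n := n) (f := fun κ => ((Equiv.Perm.sign κ : ℤ) : ℂ) *
    Cfsg.fixedPointCharacter (Cfsg.parabolicGL n F fun i => 1 + i.val - (κ i).val) g)]
  let dimF : L → ℕ := fun W => Module.finrank F (ι W)
  have hstrict : ∀ {a b : L}, a < b → dimF a < dimF b := fun h =>
    Submodule.finrank_lt_finrank_of_lt (ι.lt_iff_lt.2 h)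
  have hrange : ∀ S ∈ chains (⊤ : L), S.image dimF ∈ (Finset.Ico 1 n).powerset := by
    intro S hS
    rw [Finset.mem_powerset]
    intro d hd
    obtain ⟨W, hW, rfl⟩ := Finset.mem_image.1 hd
    obtain ⟨h1, h2⟩ := (mem_chains.1 hS).1 W hW
    have h1' := hstrict h1
    have h2' := hstrict h2
    have e1 : dimF ⊥ = 0 := by simp only [dimF]; rw [hbot, finrank_bot]
    have e2 : dimF ⊤ = n := by simp only [dimF]; rw [htop, finrank_top, Module.finrank_fin_fun]
    rw [e1] at h1'
    rw [e2] at h2'
    exact Finset.mem_Ico.2 ⟨h1', h2'⟩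
  have hcard : ∀ S ∈ chains (⊤ : L), (S.image dimF).card = S.card := by
    intro S hS
    refine Finset.card_image_of_injOn fun a ha b hb he => ?_
    rcases (mem_chains.1 hS).2.total ha hb with h | h
    · exact h.eq_or_lt.elim id fun hlt => absurd he (hstrict hlt).ne
    · exact h.eq_or_lt.elim Eq.symm fun hlt => absurd he (hstrict hlt).ne'
  have hsum : ∀ D ∈ (Finset.Ico 1 n).powerset,
      ((Equiv.Perm.sign (kappa n D) : ℤ) : ℂ) *
        Cfsg.fixedPointCharacter (Cfsg.parabolicGL n F fun i => 1 + i.val - (kappa n D i).val) g =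
      ∑ S ∈ (chains (⊤ : L)).filter (fun S => S.image dimF = D), (-1 : ℂ) ^ (n - 1 - S.card) := by
    intro D hD
    rw [Finset.mem_powerset] at hD
    have hfp : Cfsg.fixedPointCharacter (Cfsg.parabolicGL n F fun i => 1 + i.val - (kappa n D i).val) g =
        (((chains (⊤ : L)).filter fun S => S.image dimF = D).card : ℂ) := by
      rw [Cfsg.fixedPointCharacter]
      exact congrArg Nat.cast ((card_fixedBy ι hbot htop g hinv hD).trans (by simp only [dimF]))
    rw [hfp, sign_kappa hD, mul_comm]
    rw [Finset.sum_congr rfl (fun S hS => by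
      rw [← hcard S (Finset.mem_filter.1 hS).1, (Finset.mem_filter.1 hS).2])]
    rw [Finset.sum_const, nsmul_eq_mul]
  rw [Finset.sum_congr rfl hsum, Finset.sum_fiberwise_of_maps_to hrange]
  rcases Nat.eq_zero_or_pos n with hn | hn
  · have htb : (⊤ : L) = ⊥ := by
      apply ι.injective
      rw [htop, hbot]
      subst hn
      exact Subsingleton.elim _ _
    have hchains : chains (⊤ : L) = {∅} := by
      ext S
      rw [mem_chains, Finset.mem_singleton]
      constructor
      · rintro ⟨h, -⟩
        refine Finset.eq_empty_of_forall_notMem fun W hW => ?_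
        have := h W hW
        rw [htb] at this
        exact absurd this.2 (not_lt_bot)
      · rintro rfl
        exact ⟨by simp, by simp [IsChain]⟩
    rw [hchains, htb, mob_bot]
    simp [hn]
  · have hne : (⊤ : L) ≠ ⊥ := fun h => by
      have := congrArg (fun W : Submodule F (Fin n → F) => Module.finrank F W) ((htop.symm.trans (congrArg ι h)).trans hbot)
      simp only [finrank_top, finrank_bot, Module.finrank_fin_fun] at this
      omega
    rw [mob, if_neg hne, chainSum, mul_neg, Finset.mul_sum, ← Finset.sum_neg_distrib]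
    refine Finset.sum_congr rfl fun S hS => ?_
    have hle : S.card ≤ n - 1 := by
      rw [← hcard S hS]
      exact (Finset.card_le_card (Finset.mem_powerset.1 (hrange S hS))).trans_eq (by rw [Nat.card_Ico])
    obtain ⟨j, hj⟩ : ∃ j, n - 1 = S.card + j := ⟨n - 1 - S.card, by omega⟩
    rw [hj, Nat.add_sub_cancel_left, show n = S.card + j + 1 by omega, pow_add, pow_add, pow_one]
    have hsq : (-1 : ℂ) ^ S.card * (-1 : ℂ) ^ S.card = 1 := by rw [← mul_pow]; norm_num
    linear_combination -((-1 : ℂ) ^ j) * hsq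

variable [DecidableEq F] (p : ℕ) [Fact p.Prime] [CharP F p]

theorem isSemisimple_lin (x : GL (Fin n) F) (hx : (orderOf x).Coprime p) : (lin x).IsSemisimple := by
  have hN : ((orderOf x : ℕ) : F) ≠ 0 := by
    rw [Ne, CharP.cast_eq_zero_iff F p]
    exact fun h => (Fact.out : p.Prime).one_lt.ne' (Nat.eq_one_of_dvd_coprimes hx h dvd_rfl)
  refine Module.End.isSemisimple_of_squarefree_aeval_eq_zero
    (p := X ^ orderOf x - C (1 : F)) ((separable_X_pow_sub_C (1 : F) hN one_ne_zero).squarefree) ?_
  have hpow : ∀ k, lin x ^ k = lin (x ^ k) := by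
    intro k
    induction k with
    | zero => simp [lin]; rfl
    | succ k ih => rw [pow_succ, pow_succ, ih]; simp [lin, Matrix.mulVecLin_mul, Module.End.mul_eq_comp]
  rw [map_sub, map_pow, aeval_X, hpow, pow_orderOf_eq_one, map_one, map_one]
  simp [lin, Module.End.one_eq_id]

/-- The embedding of the submodules of the associated module. -/
noncomputable def emb (x : GL (Fin n) F) :
    Submodule F[X] (Module.AEval' (lin x)) ↪o Submodule F (Fin n → F) :=
  (Submodule.restrictScalarsEmbedding F F[X] (Module.AEval' (lin x))).trans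
    (Submodule.orderIsoMapComap (Module.AEval'.of (lin x))).symm.toOrderEmbedding

omit [Fintype F] [DecidableEq F] in
theorem mem_emb (x : GL (Fin n) F) (W : Submodule F[X] (Module.AEval' (lin x))) (v : Fin n → F) :
    v ∈ emb x W ↔ Module.AEval'.of (lin x) v ∈ W := Iff.rfl

omit [Fintype F] [DecidableEq F] in
theorem emb_range (x : GL (Fin n) F) (W : Submodule F (Fin n → F)) :
    W ∈ Set.range (emb x) ↔ W.map (lin x) ≤ W := by
  constructor
  · rintro ⟨W', rfl⟩ _ ⟨v, hv, rfl⟩
    rw [mem_emb, ← Module.AEval'.X_smul_of]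
    exact W'.smul_mem _ hv
  · intro hW
    refine ⟨{ carrier := Module.AEval'.of (lin x) '' W
              add_mem' := ?_, zero_mem' := ⟨0, W.zero_mem, map_zero _⟩, smul_mem' := ?_ }, ?_⟩
    · rintro _ _ ⟨a, ha, rfl⟩ ⟨b, hb, rfl⟩
      exact ⟨a + b, W.add_mem ha hb, map_add _ _ _⟩
    · intro f
      induction f using Polynomial.induction_on with
      | C a =>
        rintro _ ⟨v, hv, rfl⟩
        exact ⟨a • v, W.smul_mem a hv, by rw [map_smul, ← algebraMap_smul F[X] a, Polynomial.algebraMap_eq]⟩
      | add f g hf hg =>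
        intro v hv
        obtain ⟨a, ha, ha'⟩ := hf hv
        obtain ⟨b, hb, hb'⟩ := hg hv
        exact ⟨a + b, W.add_mem ha hb, by rw [map_add, ha', hb', add_smul]⟩
      | monomial k a ih =>
        rintro _ ⟨v, hv, rfl⟩
        rw [pow_succ, ← mul_assoc, mul_smul, Module.AEval'.X_smul_of]
        exact ih ⟨_, hW ⟨v, hv, rfl⟩, rfl⟩
    · ext v
      rw [mem_emb]
      exact (Module.AEval'.of (lin x)).injective.mem_set_image

theorem steinberg_value {q : ℕ} (hq : Fintype.card F = q) (x : GL (Fin n) F) (hx : (orderOf x).Coprime p) :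
    Cfsg.unipotentCharacterGL n F (fun _ => 1) x =
      ∏ f ∈ (normalizedFactors (x : Matrix (Fin n) (Fin n) F).charpoly).toFinset,
        (-1 : ℂ) ^ ((f.natDegree - 1) * (normalizedFactors (x : Matrix (Fin n) (Fin n) F).charpoly).count f) *
          (q : ℂ) ^ (f.natDegree * (normalizedFactors (x : Matrix (Fin n) (Fin n) F).charpoly).count f *
            ((normalizedFactors (x : Matrix (Fin n) (Fin n) F).charpoly).count f - 1) / 2) := by
  classical
  haveI : IsSemisimpleModule F[X] (Module.AEval' (lin x)) := isSemisimple_lin p x hx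
  haveI : Finite (Module.AEval' (lin x)) := Finite.of_equiv _ (Module.AEval'.of (lin x)).toEquiv
  haveI : Fintype (Submodule F[X] (Module.AEval' (lin x))) := Fintype.ofFinite _
  have hbot : emb x ⊥ = ⊥ := by
    ext v
    rw [mem_emb]
    simp
  have htop : emb x ⊤ = ⊤ := by
    ext v
    simp [mem_emb]
  rw [unipotent_one_eq_chains (emb x) hbot htop x (emb_range x), (mob_eq ⊤).1]
  have hcp : cp F (⊤ : Submodule F[X] (Module.AEval' (lin x))) = (x : Matrix (Fin n) (Fin n) F).charpoly := by
    rw [cp_congr Submodule.topEquiv, cp, ← Matrix.charpoly_toLin', ← LinearEquiv.charpoly_conj (Module.AEval'.of (lin x))]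
    congr 1
    ext w
    obtain ⟨v, rfl⟩ := (Module.AEval'.of (lin x)).surjective w
    rw [actX_apply, Module.AEval'.X_smul_of, LinearEquiv.conj_apply_apply, LinearEquiv.symm_apply_apply]
    rfl
  rw [hcp]
  set P := (x : Matrix (Fin n) (Fin n) F).charpoly with hP
  set s := normalizedFactors P with hs
  have hPm : P.Monic := Matrix.charpoly_monic _
  have hmon : ∀ f ∈ s, f.Monic := fun f hf =>
    (normalize_normalized_factor f hf) ▸ Polynomial.monic_normalize (irreducible_of_normalized_factor f hf).ne_zero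
  have hn : n = ∑ f ∈ s.toFinset, s.count f * f.natDegree := by
    have hprod : s.prod = P := eq_of_monic_of_associated (by simpa using monic_multiset_prod_of_monic s id hmon)
      hPm (prod_normalizedFactors hPm.ne_zero)
    have hd : P.natDegree = n := by rw [hP, Matrix.charpoly_natDegree_eq_dim, Fintype.card_fin]
    rw [← hd, ← hprod, natDegree_multiset_prod_of_monic _ hmon, Finset.sum_multiset_map_count]
    simp
  have hc : s.card = ∑ f ∈ s.toFinset, s.count f := (Multiset.toFinset_sum_count_eq s).symm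
  rw [val, ← mul_assoc, ← pow_add, Finset.prod_mul_distrib, Finset.prod_pow_eq_pow_sum,
    Finset.prod_pow_eq_pow_sum, hq]
  congr 1
  · refine (neg_one_pow_eq_pow_mod_two _).trans (Eq.trans ?_ (neg_one_pow_eq_pow_mod_two _).symm)
    congr 1
    rw [hn, hc, ← Finset.sum_add_distrib]
    rw [Finset.sum_nat_mod, Finset.sum_nat_mod (f := fun f => (f.natDegree - 1) * s.count f)]
    congr 1
    refine Finset.sum_congr rfl fun f hf => ?_
    have hdeg : 1 ≤ f.natDegree := (irreducible_of_normalized_factor f (Multiset.mem_toFinset.1 hf)).natDegree_pos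
    obtain ⟨d, hd⟩ : ∃ d, f.natDegree = d + 1 := ⟨f.natDegree - 1, by omega⟩
    rw [hd, Nat.add_sub_cancel, show s.count f * (d + 1) + s.count f = d * s.count f + 2 * s.count f by ring,
      Nat.add_mul_mod_self_left]
  · congr 1
    refine Finset.sum_congr rfl fun f _ => ?_
    rw [Nat.choose_two_right, ← Nat.mul_div_assoc _ (Nat.even_mul_pred_self _).two_dvd, mul_assoc]

end CfsgLib.GLSt
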