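import Mathlib

/-!
# The Möbius function of a finite lattice as a signed count of chains
-/

set_option autoImplicit false

namespace CfsgLib.GLSt

open Finset

section

variable {L : Type*} [Lattice L] [BoundedOrder L] [Fintype L]

open scoped Classical in
/-- Chains strictly between `⊥` and `U`. -/
noncomputable def chains (U : L) : Finset (Finset L) :=
  (univ.filter fun W => ⊥ < W ∧ W < U).powerset.filter fun S => IsChain (· ≤ ·) (S : Set L)

theorem mem_chains {U : L} {S : Finset L} :
    S ∈ chains U ↔ (∀ W ∈ S, ⊥ < W ∧ W < U) ∧ IsChain (· ≤ ·) (S : Set L) := by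
  simp [chains, Finset.subset_iff]

/-- Signed count of chains. -/
noncomputable def chainSum (U : L) : ℂ := ∑ S ∈ chains U, (-1 : ℂ) ^ S.card

open scoped Classical in
/-- The Möbius function `μ(⊥, U)`. -/
noncomputable def mob (U : L) : ℂ := if U = ⊥ then 1 else -chainSum U

theorem chain_exists_max {S : Finset L} (hc : IsChain (· ≤ ·) (S : Set L)) (hne : S.Nonempty) :
    ∃ W ∈ S, ∀ V ∈ S, V ≤ W := by
  obtain ⟨W, hW, hmax⟩ := S.exists_maximal hne
  refine ⟨W, hW, fun V hV => ?_⟩
  rcases hc.total hV hW with h | h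
  · exact h
  · exact hmax hV h

open scoped Classical in
theorem chainSum_eq (U : L) (hU : U ≠ ⊥) :
    chainSum U = 1 - ∑ W ∈ univ.filter (fun W => ⊥ < W ∧ W < U), chainSum W := by
  have h0 : (∅ : Finset L) ∈ chains U := mem_chains.2 ⟨by simp, by simp [IsChain]⟩
  rw [chainSum, ← Finset.add_sum_erase _ _ h0, card_empty, pow_zero, sub_eq_add_neg, ← sum_neg_distrib]
  congr 1
  simp only [chainSum, ← sum_neg_distrib]
  rw [Finset.sum_sigma']
  refine (Finset.sum_bij (fun x _ => insert x.1 x.2) ?_ ?_ ?_ ?_).symm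
  · rintro ⟨W, S⟩ hx
    simp only [mem_sigma, mem_filter, mem_univ, true_and] at hx
    obtain ⟨hS, hc⟩ := mem_chains.1 hx.2
    refine mem_erase.2 ⟨(insert_nonempty _ _).ne_empty, mem_chains.2 ⟨?_, ?_⟩⟩
    · intro V hV
      rcases mem_insert.1 hV with rfl | hV
      · exact hx.1
      · exact ⟨(hS V hV).1, (hS V hV).2.trans hx.1.2⟩
    · rw [coe_insert]
      exact hc.insert fun V hV _ => Or.inr (hS V hV).2.le
  · rintro ⟨W, S⟩ hx ⟨W', S'⟩ hx' he
    simp only [mem_sigma, mem_filter, mem_univ, true_and] at hx hx'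
    have hS := (mem_chains.1 hx.2).1
    have hS' := (mem_chains.1 hx'.2).1
    have hW : W = W' := by
      have h1 : W ∈ insert W' S' := he ▸ mem_insert_self W S
      have h2 : W' ∈ insert W S := he.symm ▸ mem_insert_self W' S'
      rcases mem_insert.1 h1 with h | h
      · exact h
      rcases mem_insert.1 h2 with h' | h'
      · exact h'.symm
      exact absurd ((hS' W h).2.trans (hS W' h').2) (lt_irrefl W)
    subst hW
    have : S = S' := by
      rw [← erase_insert (show W ∉ S from fun h => lt_irrefl _ (hS W h).2),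
        ← erase_insert (show W ∉ S' from fun h => lt_irrefl _ (hS' W h).2)]
      exact congrArg (fun T => T.erase W) he
    subst this
    rfl
  · intro S hS
    obtain ⟨hne, hS⟩ := mem_erase.1 hS
    obtain ⟨hS, hc⟩ := mem_chains.1 hS
    obtain ⟨W, hW, hmax⟩ := chain_exists_max hc (nonempty_iff_ne_empty.2 hne)
    refine ⟨⟨W, S.erase W⟩, ?_, insert_erase hW⟩
    simp only [mem_sigma, mem_filter, mem_univ, true_and]
    refine ⟨hS W hW, mem_chains.2 ⟨fun V hV => ⟨(hS V (mem_of_mem_erase hV)).1,
      lt_of_le_of_ne (hmax V (mem_of_mem_erase hV)) (ne_of_mem_erase hV)⟩, ?_⟩⟩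
    exact hc.mono (coe_subset.2 (erase_subset _ _))
  · rintro ⟨W, S⟩ hx
    simp only [mem_sigma, mem_filter, mem_univ, true_and] at hx
    rw [card_insert_of_notMem (fun h => lt_irrefl _ ((mem_chains.1 hx.2).1 W h).2), pow_succ]
    ring

theorem mob_bot : mob (⊥ : L) = 1 := by simp [mob]

open scoped Classical in
theorem sum_mob (U : L) (hU : U ≠ ⊥) : ∑ W ∈ univ.filter (fun W => W ≤ U), mob W = 0 := by
  have hset : univ.filter (fun W => W ≤ U) = insert ⊥ (insert U (univ.filter fun W => ⊥ < W ∧ W < U)) := by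
    ext W
    simp only [mem_filter, mem_univ, true_and, mem_insert]
    constructor
    · intro h
      by_cases h0 : W = ⊥
      · exact Or.inl h0
      rcases h.eq_or_lt with h1 | h1
      · exact Or.inr (Or.inl h1)
      · exact Or.inr (Or.inr ⟨bot_lt_iff_ne_bot.2 h0, h1⟩)
    · rintro (rfl | rfl | ⟨-, h⟩)
      exacts [bot_le, le_rfl, h.le]
  rw [hset, sum_insert (by simp [Ne.symm hU]), sum_insert (by simp), mob_bot]
  have hrest : ∑ W ∈ univ.filter (fun W => ⊥ < W ∧ W < U), mob W =
      -∑ W ∈ univ.filter (fun W => ⊥ < W ∧ W < U), chainSum W := by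
    rw [← sum_neg_distrib]
    refine sum_congr rfl fun W hW => ?_
    simp only [mem_filter] at hW
    rw [mob, if_neg hW.2.1.ne']
  rw [hrest, mob, if_neg hU, chainSum_eq U hU]
  ring

open scoped Classical in
/-- Weisner's identity. -/
theorem sum_mob_sup (A : L) (hA : A ≠ ⊥) (U : L) :
    A ≤ U → ∑ W ∈ univ.filter (fun W => W ⊔ A = U), mob W = 0 := by
  induction U using WellFoundedLT.induction with
  | _ U ih =>
    intro hAU
    have hne : U ≠ ⊥ := ne_bot_of_le_ne_bot hA hAU
    have h := sum_mob U hne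
    rw [← sum_fiberwise_of_maps_to (g := fun W => W ⊔ A) (t := univ.filter (fun V => A ≤ V ∧ V ≤ U))
      (fun W hW => by simp only [mem_filter, mem_univ, true_and] at hW ⊢; exact ⟨le_sup_right, sup_le hW hAU⟩)] at h
    have hfib : ∀ V ∈ univ.filter (fun V => A ≤ V ∧ V ≤ U),
        (univ.filter (fun W => W ≤ U)).filter (fun W => W ⊔ A = V) = univ.filter (fun W => W ⊔ A = V) := by
      intro V hV
      simp only [mem_filter, mem_univ, true_and] at hV
      ext W
      simp only [mem_filter, mem_univ, true_and, and_iff_right_iff_imp]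
      exact fun hW => (le_sup_left.trans hW.le).trans hV.2
    rw [sum_congr rfl fun V hV => sum_congr (hfib V hV) fun _ _ => rfl] at h
    rw [← h]
    symm
    refine sum_eq_single_of_mem U ?_ fun V hV hVU => ?_
    · exact mem_filter.2 ⟨mem_univ _, hAU, le_rfl⟩
    simp only [mem_filter, mem_univ, true_and] at hV
    exact ih V (lt_of_le_of_ne hV.2 hVU) hV.1

end

end CfsgLib.GLSt
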